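import Cfsg.Agent.H525.L2.Main
import Cfsg.Agent.H671.Link
import Cfsg.Agent.H672.Lin
import Cfsg.Agent.S0188

/-!
# Non-solvable groups with triangle-free degree graph: the direct product case (helper677)

* `radical_trivial` : `L` perfect, `L / N ≅ PSL(2,F)`, `N` solvable and no degree of `L` divisible by two
  primes of `|L / N|`: `N = 1`.
* `step_one` : a prime `p` of `ρ(G)` not dividing `|G / R|` forces `|F| ∈ {4, 5, 8}` and is adjacent to
  the primes of all degrees of `PSL(2,F)`.
-/

set_option autoImplicit false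

namespace Cfsg.Agent.H677.Pent

open Cfsg Cfsg.Agent.H671 Matrix
open Cfsg.Agent.H672 (lf isIrr_lf charDegree_lf over_iff Over charDegree_dvd_of_over coe_charDegree)

universe u

/-- A nontrivial finite solvable group has a nontrivial linear character. -/
theorem exists_lin_ne_one {N : Type u} [Group N] [Finite N] (hs : Group.IsSolvable N)
    (hn : Nontrivial N) : ∃ l : N →* ℂˣ, l ≠ 1 := by
  classical
  have h1 : commutator N < ⊤ := by
    refine lt_of_le_of_ne le_top ?_
    intro h
    have h2 : ∀ n, derivedSeries N n = ⊤ := by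
      intro n
      induction n with
      | zero => rfl
      | succ n ih => rw [derivedSeries_succ, ih]; exact h
    obtain ⟨n, hn'⟩ := (Group.isSolvable_def N).1 hs
    rw [h2 n] at hn'
    exact absurd hn' top_ne_bot
  obtain ⟨x, -, hx⟩ := SetLike.exists_of_lt h1
  have hx' : (Abelianization.of x : Abelianization N) ≠ 1 := by
    intro h
    apply hx
    have h3 : x ∈ (Abelianization.of (G := N)).ker := h
    rwa [Abelianization.ker_of] at h3
  obtain ⟨φ, hφ⟩ := CommGroup.exists_apply_ne_one_of_hasEnoughRootsOfUnity (Abelianization N) ℂ hx'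
  refine ⟨φ.comp Abelianization.of, fun h => hφ ?_⟩
  exact DFunLike.congr_fun h x

theorem radical_trivial {L : Type u} [Group L] [Finite L] (N : Subgroup L) [N.Normal] {F : Type}
    [Field F] [Fintype F] (hF : 4 ≤ Fintype.card F)
    (e : L ⧸ N ≃* Matrix.ProjectiveSpecialLinearGroup (Fin 2) F) (hperf : commutator L = ⊤)
    (hsolv : Group.IsSolvable N)
    (hno : ∀ p q, p.Prime → q.Prime → p ≠ q → p ∣ N.index → q ∣ N.index →
      ∀ d ∈ charDegrees L, ¬ p * q ∣ d) : N = ⊥ := by
  classical
  by_contra hne
  have := Fintype.ofFinite N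
  have hnt : Nontrivial N := (Subgroup.nontrivial_iff_ne_bot N).2 hne
  obtain ⟨l, hl⟩ := exists_lin_ne_one hsolv hnt
  rcases H525.L2.l2_over N hF e ⟨lf l, isIrr_lf l⟩ with ⟨χ, h1, p, q, d, hp, hq, hpq, h2, h3⟩ | ⟨-, χ, hχ⟩
  · have h4 : charDegree (χ : L → ℂ) = d := by
      rw [h2]
      show d * charDegree (lf l) = d
      rw [charDegree_lf, mul_one]
    have h5 : d ∣ N.index := by
      have h6 : Over N.subtype (χ : L → ℂ) (lf l) := by
        rw [over_iff]
        exact h1
      have h7 := (charDegree_dvd_of_over N χ.2 (isIrr_lf l) h6).2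
      rwa [charDegree_lf, Nat.div_one, h4] at h7
    exact hno p q hp hq hpq (((Dvd.intro _ rfl).trans h3).trans h5) (((Dvd.intro_left _ rfl).trans h3).trans h5)
      _ ⟨χ, rfl⟩ (h4 ▸ h3)
  · have h4 : charDegree (χ : L → ℂ) = 1 := by
      have h5 := hχ 1
      have h6 : ((charDegree (χ : L → ℂ) : ℕ) : ℂ) = 1 := by
        rw [coe_charDegree χ.2]
        have h7 : (χ : L → ℂ) ((1 : N) : L) = lf l 1 := h5
        rw [OneMemClass.coe_one] at h7
        rw [h7, H672.lf_apply, map_one, Units.val_one]
      exact_mod_cast h6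
    obtain ⟨m, hm⟩ := H672.exists_hom_of_degree_one χ.2 h4
    have hm1 : m = 1 := by
      have h5 : m.ker = ⊤ := by
        rw [eq_top_iff, ← hperf]
        exact Abelianization.commutator_subset_ker m
      ext x
      have h6 : x ∈ m.ker := by rw [h5]; trivial
      rw [MonoidHom.mem_ker.1 h6]; rfl
    apply hl
    ext n
    have h5 := hχ n
    rw [hm, hm1] at h5
    exact h5.symm

end Cfsg.Agent.H677.Pent
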