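import Cfsg.Agent.H677.Pent.Out
import Cfsg.Agent.H677.Pent.Five
import Cfsg.Agent.H677.Pent.Solv
import Cfsg.Agent.H714.Tri.Out
import Cfsg.Agent.H988.DG.Frame
import Cfsg.Agent.H748.PalfyMain
import Cfsg.Agent.H273.PalfyKP

/-!
# S4946 from its ingredients (helper677)
-/

set_option autoImplicit false

namespace Cfsg.Agent.H677.Pent

open Cfsg Cfsg.Agent.H671 Matrix

universe u

theorem outFact : OutFact.{u} := by
  intro Γ _ _ S _ F _ _ hF ⟨e⟩ hC t ht htS
  obtain ⟨h1, h2⟩ := H714.Tri.out S e hF hC ht htS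
  refine ⟨fun h => ?_, h2⟩
  obtain ⟨r, s, hr, hs, hrs, a, b, d, hd, hdv⟩ := h1 h
  exact ⟨r, s, hr, hs, hrs, a, b, d, hd, by rwa [mul_assoc]⟩

/-- Pálfy's theorem. -/
theorem palfy {G : Type u} [Group G] [Finite G] (hG : Group.IsSolvable G) {p q r : ℕ}
    (hp : p ∈ degreePrimes G) (hq : q ∈ degreePrimes G) (hr : r ∈ degreePrimes G)
    (hpq : p ≠ q) (hqr : q ≠ r) (hpr : p ≠ r) :
    (degreeGraph G).Adj p q ∨ (degreeGraph G).Adj q r ∨ (degreeGraph G).Adj p r :=
  H748.Palfy.palfy_of_KP H273.Palfy.kp hG hp hq hr hpq hqr hpr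

/-- A solvable group with five vertices and triangle-free graph has a pentagon in the complement. -/
theorem solv_pentagon {G : Type u} [Group G] [Finite G] (hG : Group.IsSolvable G)
    (h5 : Set.ncard (degreePrimes G) = 5) (htri : (degreeGraph G).CliqueFree 3) :
    ∃ v : Fin 5 → ℕ, Function.Injective v ∧ (∀ i, v i ∈ degreePrimes G) ∧
      ∀ i, ¬ (degreeGraph G).Adj (v i) (v (i + 1)) :=
  exists_pentagon (degreeGraph G) (degreePrimes G) h5 htri fun _ hp _ hq _ hr h1 h2 h3 =>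
    palfy hG hp hq hr h1 h2 h3

/-- **S4946**, from the exclusion of the case `ρ(G) ⊆ π(S)` (`hMain`). -/
theorem final (hT : Cfsg.Agent.H671.H5.FactTri.{0})
    (hMain : ∀ (G : Type u) [Group G] [Finite G] (R K : Subgroup G) [R.Normal] [K.Normal], R ≤ K →
      Group.IsSolvable R → (∀ N : Subgroup G, N.Normal → Group.IsSolvable N → N ≤ R) →
      ∀ (F : Type) [Field F] [Fintype F], 4 ≤ Fintype.card F →
      Nonempty (K.map (QuotientGroup.mk' R) ≃* Matrix.ProjectiveSpecialLinearGroup (Fin 2) F) →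
      Subgroup.centralizer ((K.map (QuotientGroup.mk' R) : Subgroup (G ⧸ R)) : Set (G ⧸ R)) = ⊥ →
      (degreeGraph G).CliqueFree 3 → Set.ncard (degreePrimes G) = 5 →
      (∀ p ∈ degreePrimes G, p ∣ Nat.card (Matrix.ProjectiveSpecialLinearGroup (Fin 2) F)) →
      ¬ ((degreeGraph G).induce (degreePrimes G)).Connected)
    {G : Type u} [Group G] [Finite G]
    (h5 : Set.ncard (degreePrimes G) = 5) (htri : (degreeGraph G).CliqueFree 3)
    (hcon : ((degreeGraph G).induce (degreePrimes G)).Connected) :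
    ∃ H K : Subgroup G, H.Normal ∧ K.Normal ∧ H ⊓ K = ⊥ ∧ H ⊔ K = ⊤ ∧
      (Nonempty (↥H ≃* ↥(alternatingGroup (Fin 5))) ∨
        ∃ (F : Type) (_ : Field F) (_ : Fintype F), Fintype.card F = 8 ∧
          Nonempty (↥H ≃* Matrix.ProjectiveSpecialLinearGroup (Fin 2) F)) ∧
      Group.IsSolvable ↥K ∧ Set.ncard (degreePrimes ↥K) = 2 ∧
      (∀ p q : ℕ, ¬ (degreeGraph ↥K).Adj p q) ∧ degreePrimes ↥H ∩ degreePrimes ↥K = ∅ := by
  classical
  by_cases hs : Group.IsSolvable G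
  · obtain ⟨v, h1, h2, h3⟩ := solv_pentagon hs h5 htri
    exact (no_pentagon hs h5 v h1 h2 h3).elim
  obtain ⟨R, K, hR, hK, hRK, hRs, hmax, F, iF, iF', hF, ⟨e⟩, hC⟩ := H988.DG.frame hT hs htri
  by_cases hall : ∀ p ∈ degreePrimes G, p ∣ Nat.card (Matrix.ProjectiveSpecialLinearGroup (Fin 2) F)
  · exact (hMain G R K hRK hRs hmax F hF ⟨e⟩ hC htri h5 hall hcon).elim
  push Not at hall
  obtain ⟨p, hp, hpS⟩ := hall
  obtain ⟨F', iG, iG', hF', L, hL, hinf, hsup, ⟨eL⟩, hdL, hun, hedge, hdis⟩ :=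
    nonsolv outFact R K hRK hRs hF e hC htri hp hpS
  have hfin : (degreePrimes G).Finite := Set.finite_of_ncard_ne_zero (by omega)
  have hfR : (degreePrimes R).Finite := hfin.subset (by rw [hun]; exact Set.subset_union_right)
  have hfL : (degreePrimes L).Finite := hfin.subset (by rw [hun]; exact Set.subset_union_left)
  have h3 : Set.ncard (degreePrimes L) = 3 := by
    rw [hdL, Set.ncard_coe_finset, card_pr]
  have h2 : Set.ncard (degreePrimes R) = 2 := by
    have h4 := Set.ncard_union_eq (Set.disjoint_iff_inter_eq_empty.2 hdis) hfL hfR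
    rw [← hun, h5, h3] at h4
    omega
  refine ⟨L, R, hL, hR, hinf, hsup, ?_, hRs, h2, hedge, hdis⟩
  rcases hF' with h | h
  · obtain ⟨e4⟩ := S0252.result h
    exact Or.inl ⟨eL.trans e4⟩
  · exact Or.inr ⟨F', iG, iG', h, ⟨eL⟩⟩

end Cfsg.Agent.H677.Pent
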