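import Cfsg.Agent.H677.Pent.Prod

/-!
# Non-solvable groups with triangle-free degree graph: `G = L × R`, `L ≅ A₅` or `PSL(2,8)` (helper677)
-/

set_option autoImplicit false

namespace Cfsg.Agent.H677.Pent

open Cfsg Cfsg.Agent.H671 Matrix
open Cfsg.Agent.H681.DegBasic (mem_charDegrees charDegrees_comp)

universe u

theorem degreePrimes_congr {G : Type*} {H : Type*} [Group G] [Group H] (e : G ≃* H) :
    degreePrimes G = degreePrimes H := by
  ext p
  constructor
  · rintro ⟨hp, d, hd, h⟩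
    exact ⟨hp, d, charDegrees_comp e.symm.toMonoidHom e.symm.surjective hd, h⟩
  · rintro ⟨hp, d, hd, h⟩
    exact ⟨hp, d, charDegrees_comp e.toMonoidHom e.surjective hd, h⟩

theorem psl_simple {F : Type} [Field F] [Fintype F] (hF : Fintype.card F = 4 ∨ Fintype.card F = 8) :
    IsSimpleGroup (Matrix.ProjectiveSpecialLinearGroup (Fin 2) F) :=
  Matrix.ProjectiveSpecialLinearGroup.rank_two_simple (by
    rw [Nat.card_eq_fintype_card]; omega)

theorem psl_not_solvable {F : Type} [Field F] [Fintype F]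
    (hF : Fintype.card F = 4 ∨ Fintype.card F = 8) :
    ¬ Group.IsSolvable (Matrix.ProjectiveSpecialLinearGroup (Fin 2) F) := by
  intro h
  have hs := psl_simple hF
  have hc := IsSimpleGroup.comm_iff_isSolvable.2 h
  letI : CommGroup (Matrix.ProjectiveSpecialLinearGroup (Fin 2) F) :=
    { (inferInstance : Group (Matrix.ProjectiveSpecialLinearGroup (Fin 2) F)) with mul_comm := hc }
  have hp : (Nat.card (Matrix.ProjectiveSpecialLinearGroup (Fin 2) F)).Prime := IsSimpleGroup.prime_card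
  have h2 : 2 ∣ Nat.card (Matrix.ProjectiveSpecialLinearGroup (Fin 2) F) := by
    rw [card_psl hF]
    rcases hF with hF | hF <;> rw [hF] <;> norm_num
  have h3 : 3 ∣ Nat.card (Matrix.ProjectiveSpecialLinearGroup (Fin 2) F) := by
    rw [card_psl hF]
    rcases hF with hF | hF <;> rw [hF] <;> norm_num
  have h4 := (Nat.prime_dvd_prime_iff_eq Nat.prime_two hp).1 h2
  have h5 := (Nat.prime_dvd_prime_iff_eq Nat.prime_three hp).1 h3
  omega

theorem exists_other {q r : ℕ} : ∃ s ∈ pr q, s ≠ r := by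
  by_cases h : (2 : ℕ) = r
  · exact ⟨3, by unfold pr; split_ifs <;> simp, by omega⟩
  · exact ⟨2, by unfold pr; split_ifs <;> simp, h⟩

/-- **The splitting.** -/
theorem main {G : Type u} [Group G] [Finite G] (R : Subgroup G) [hR : R.Normal]
    (hRs : Group.IsSolvable R) {F : Type} [Field F] [Fintype F]
    (hF : Fintype.card F = 4 ∨ Fintype.card F = 8)
    (e : G ⧸ R ≃* Matrix.ProjectiveSpecialLinearGroup (Fin 2) F)
    (htri : (degreeGraph G).CliqueFree 3)
    (hno : ∀ r ∈ pr (Fintype.card F), ∀ s ∈ pr (Fintype.card F), r ≠ s → ∀ d ∈ charDegrees G, ¬ r * s ∣ d) :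
    ∃ L : Subgroup G, L.Normal ∧ L ⊓ R = ⊥ ∧ L ⊔ R = ⊤ ∧
      Nonempty (L ≃* Matrix.ProjectiveSpecialLinearGroup (Fin 2) F) ∧
      degreePrimes G = degreePrimes L ∪ degreePrimes R ∧
      (∀ p q : ℕ, ¬ (degreeGraph R).Adj p q) ∧ degreePrimes L ∩ degreePrimes R = ∅ := by
  classical
  have hq4 : 4 ≤ Fintype.card F := by omega
  have hps := psl_simple hF
  have hs : IsSimpleGroup (G ⧸ R) := (MulEquiv.isSimpleGroup_congr e).2 hps
  have hns : ¬ Group.IsSolvable (G ⧸ R) := fun h =>
    psl_not_solvable hF (Group.isSolvable_of_surjective (f := e.toMonoidHom) e.surjective)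
  obtain ⟨L, hL, hperf, hLR⟩ := exists_residual_sup R hRs hs hns
  have hmap : L.map (QuotientGroup.mk' R) = ⊤ := by
    have h1 : (L ⊔ R).map (QuotientGroup.mk' R) = ⊤ := by
      rw [hLR, ← MonoidHom.range_eq_map, MonoidHom.range_eq_top]
      exact QuotientGroup.mk'_surjective R
    rw [Subgroup.map_sup] at h1
    have h2 : R.map (QuotientGroup.mk' R) = ⊥ := by
      rw [Subgroup.map_eq_bot_iff, QuotientGroup.ker_mk']
    rwa [h2, sup_bot_eq] at h1
  obtain ⟨f0⟩ := exists_quotEquiv R L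
  have eN : L ⧸ R.subgroupOf L ≃* Matrix.ProjectiveSpecialLinearGroup (Fin 2) F :=
    f0.trans ((MulEquiv.subgroupCongr hmap).trans (Subgroup.topEquiv.trans e))
  have hidx : (R.subgroupOf L).index = Nat.card (Matrix.ProjectiveSpecialLinearGroup (Fin 2) F) := by
    rw [Subgroup.index_eq_card]
    exact Nat.card_congr eN.toEquiv
  have hcomm : commutator L = ⊤ := by
    have h1 : (commutator L).map L.subtype = (⊤ : Subgroup L).map L.subtype := by
      rw [Subgroup.map_subtype_commutator, hperf, ← MonoidHom.range_eq_map, Subgroup.range_subtype]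
    exact Subgroup.map_injective L.subtype_injective h1
  have hNs : Group.IsSolvable (R.subgroupOf L) := by
    have hinj : Function.Injective (L.subtype.subgroupComap R) := by
      intro x y hxy
      apply Subtype.ext; apply Subtype.ext
      exact congrArg (fun z : R => (z : G)) hxy
    exact Group.isSolvable_of_isSolvable_injective hinj
  have hN := radical_trivial (R.subgroupOf L) hq4 eN hcomm hNs (by
    intro p q hp hq hpq h1 h2 d hd h3
    obtain ⟨n, hn, hdn⟩ := Link.overN L hd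
    rw [hidx] at h1 h2
    exact hno p ((prime_dvd_iff hF hp).1 h1) q ((prime_dvd_iff hF hq).1 h2) hpq n hn (h3.trans hdn))
  have hinf : L ⊓ R = ⊥ := by
    rw [Subgroup.subgroupOf_eq_bot, disjoint_iff] at hN
    rw [inf_comm]; exact hN
  obtain ⟨ε⟩ := exists_prodEquiv L R hinf hLR
  have eL : L ≃* Matrix.ProjectiveSpecialLinearGroup (Fin 2) F :=
    (QuotientGroup.quotientBot.symm.trans (QuotientGroup.quotientMulEquivOfEq hN.symm)).trans eN
  have hmul : ∀ {a b : ℕ}, a ∈ charDegrees L → b ∈ charDegrees R → a * b ∈ charDegrees G := fun ha hb =>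
    charDegrees_comp ε.symm.toMonoidHom ε.symm.surjective (mul_mem_cd ha hb)
  have hof : ∀ {n : ℕ}, n ∈ charDegrees G → ∃ a ∈ charDegrees L, ∃ b ∈ charDegrees R, n = a * b := fun hn =>
    of_mem_cd (charDegrees_comp ε.toMonoidHom ε.surjective hn)
  have hdL : degreePrimes L = ↑(pr (Fintype.card F)) := by
    rw [degreePrimes_congr eL, degreePrimes_psl hF]
  have hdis : ∀ r, r ∈ degreePrimes L → r ∈ degreePrimes R → False := by
    intro r h1 h2
    obtain ⟨s, hs1, hs2⟩ := exists_other (q := Fintype.card F) (r := r)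
    have h3 : s ∈ degreePrimes L := by rw [hdL]; exact Finset.mem_coe.2 hs1
    obtain ⟨-, a, ha, hsa⟩ := h3
    obtain ⟨-, b, hb, hrb⟩ := h2
    rw [hdL] at h1
    exact hno s hs1 r (Finset.mem_coe.1 h1) hs2 _ (hmul ha hb) (mul_dvd_mul hsa hrb)
  refine ⟨L, hL, hinf, hLR, ⟨eL⟩, ?_, ?_, ?_⟩
  · ext p
    constructor
    · rintro ⟨hp, d, hd, hpd⟩
      obtain ⟨a, ha, b, hb, rfl⟩ := hof hd
      rcases hp.dvd_mul.1 hpd with h | h
      · exact Or.inl ⟨hp, a, ha, h⟩
      · exact Or.inr ⟨hp, b, hb, h⟩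
    · rintro (⟨hp, d, hd, hpd⟩ | ⟨hp, d, hd, hpd⟩)
      · obtain ⟨n, hn, hdn⟩ := Link.overN L hd
        exact ⟨hp, n, hn, hpd.trans hdn⟩
      · obtain ⟨n, hn, hdn⟩ := Link.overN R hd
        exact ⟨hp, n, hn, hpd.trans hdn⟩
  · rintro p q ⟨hpq, hp, hq, b, hb, hpqb⟩
    obtain ⟨r, hr, -⟩ := exists_other (q := Fintype.card F) (r := 0)
    have h3 : r ∈ degreePrimes L := by rw [hdL]; exact Finset.mem_coe.2 hr
    have hpR : p ∈ degreePrimes R := ⟨hp, b, hb, (Dvd.intro _ rfl).trans hpqb⟩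
    have hqR : q ∈ degreePrimes R := ⟨hq, b, hb, (Dvd.intro_left _ rfl).trans hpqb⟩
    have hrp : r ≠ p := by rintro rfl; exact hdis _ h3 hpR
    have hrq : r ≠ q := by rintro rfl; exact hdis _ h3 hqR
    obtain ⟨hr', a, ha, hra⟩ := h3
    have h4 : r * (p * q) ∣ a * b := mul_dvd_mul hra hpqb
    have h5 := hmul ha hb
    refine no_tri htri hr' hp hq hrp hrq hpq h5 ?_ h5 ?_ h5 ?_
    · exact dvd_trans ⟨q, by ring⟩ h4
    · exact dvd_trans ⟨p, by ring⟩ h4
    · exact dvd_trans ⟨r, by ring⟩ h4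
  · ext r
    simp only [Set.mem_inter_iff, Set.mem_empty_iff_false, iff_false, not_and]
    exact hdis r

end Cfsg.Agent.H677.Pent
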