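import Cfsg.Agent.H677.Pent.Main
import Cfsg.Agent.S2119

/-!
# Non-solvable groups with triangle-free degree graph: no outer automorphisms (helper677)
-/

set_option autoImplicit false

namespace Cfsg.Agent.H677.Pent

open Cfsg Cfsg.Agent.H671 Matrix
open Cfsg.Agent.H681.DegBasic (mem_charDegrees charDegrees_comp)

universe u

/-- The degrees of the almost simple groups with socle `PSL(2,F)` (helper714). -/
def OutFact : Prop := ∀ (Γ : Type u) [Group Γ] [Finite Γ] (S : Subgroup Γ) [S.Normal]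
  (F : Type) [Field F] [Fintype F], 4 ≤ Fintype.card F →
  Nonempty (S ≃* Matrix.ProjectiveSpecialLinearGroup (Fin 2) F) →
  Subgroup.centralizer (S : Set Γ) = ⊥ → ∀ t : ℕ, t.Prime → t ∣ S.index →
  (¬ t ∣ Nat.card S → ∃ r s : ℕ, r.Prime ∧ s.Prime ∧ r ≠ s ∧ r ∣ Nat.card S ∧ s ∣ Nat.card S ∧
    ∃ d ∈ charDegrees Γ, t * r * s ∣ d) ∧
  (Even (Fintype.card F) → (∃ d ∈ charDegrees Γ, t * (Fintype.card F - 1) ∣ d) ∧
    (4 < Fintype.card F → ∃ d ∈ charDegrees Γ, t * (Fintype.card F + 1) ∣ d))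

/-- A group with a normal subgroup `A₅` with trivial centraliser. -/
theorem index_dvd_two {Γ : Type u} [Group Γ] [Finite Γ] (S : Subgroup Γ) [S.Normal]
    (e : S ≃* alternatingGroup (Fin 5)) (hC : Subgroup.centralizer (S : Set Γ) = ⊥) : S.index ∣ 2 := by
  classical
  have hinj : Function.Injective (MulAut.conjNormal : Γ →* MulAut S) := by
    rw [injective_iff_map_eq_one]
    intro g hg
    have h1 : g ∈ Subgroup.centralizer (S : Set Γ) := by
      rw [Subgroup.mem_centralizer_iff]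
      intro s hs
      have h2 : (MulAut.conjNormal g : MulAut S) ⟨s, hs⟩ = ⟨s, hs⟩ := by rw [hg]; rfl
      have h3 := congrArg Subtype.val h2
      rw [MulAut.conjNormal_apply] at h3
      exact (mul_inv_eq_iff_eq_mul.1 h3).symm
    rw [hC] at h1
    exact Subgroup.mem_bot.1 h1
  have h1 : Nat.card Γ ∣ 120 := by
    have h2 := Subgroup.card_dvd_of_injective (MulAut.conjNormal : Γ →* MulAut S) hinj
    have h3 : Nat.card (MulAut S) = Nat.card (MulAut (alternatingGroup (Fin 5))) :=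
      Nat.card_congr (MulAut.congr e).toEquiv
    have h4 : Nat.card (MulAut (alternatingGroup (Fin 5))) = 120 := by
      rw [← Nat.card_congr (Equiv.ofBijective _ (S2119.result 5 (by norm_num) (by norm_num))),
        Nat.card_eq_fintype_card, Fintype.card_perm, Fintype.card_fin]
      rfl
    rwa [h3, h4] at h2
  have h2 : Nat.card S = 60 := by
    rw [Nat.card_congr e.toEquiv, Nat.card_eq_fintype_card]
    have := two_mul_card_alternatingGroup (α := Fin 5)
    rw [Fintype.card_perm, Fintype.card_fin] at this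
    have h5 : Nat.factorial 5 = 120 := rfl
    omega
  rw [← Subgroup.card_mul_index S, h2, show (120 : ℕ) = 60 * 2 by norm_num] at h1
  exact Nat.dvd_of_mul_dvd_mul_left (by norm_num) h1

theorem eq_top_of_out (hOut : OutFact.{u}) {Γ : Type u} [Group Γ] [Finite Γ] (S : Subgroup Γ) [S.Normal]
    {F : Type} [Field F] [Fintype F] (hF : Fintype.card F = 4 ∨ Fintype.card F = 8)
    (e : S ≃* Matrix.ProjectiveSpecialLinearGroup (Fin 2) F)
    (hC : Subgroup.centralizer (S : Set Γ) = ⊥)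
    (hno : ∀ r ∈ pr (Fintype.card F), ∀ s ∈ pr (Fintype.card F), r ≠ s →
      ∀ d ∈ charDegrees Γ, ¬ r * s ∣ d) : S = ⊤ := by
  rw [← Subgroup.index_eq_one]
  by_contra hne
  obtain ⟨t, ht, htS⟩ := Nat.exists_prime_and_dvd hne
  obtain ⟨h1, h2⟩ := hOut Γ S F (by omega) ⟨e⟩ hC t ht htS
  obtain ⟨⟨d, hd, htd⟩, h3⟩ := h2 (by rcases hF with h | h <;> rw [h] <;> decide)
  have hcard : Nat.card S = Nat.card (Matrix.ProjectiveSpecialLinearGroup (Fin 2) F) := Nat.card_congr e.toEquiv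
  by_cases htc : t ∣ Nat.card S
  · rw [hcard] at htc
    have htp := (prime_dvd_iff hF ht).1 htc
    rcases hF with hF | hF
    · rw [hF] at htd
      have h5 : (3 : ℕ) ∈ pr (Fintype.card F) := by rw [hF]; decide
      by_cases ht3 : t = 3
      · obtain ⟨e'⟩ := S0252.result hF
        have h6 := htS.trans (index_dvd_two S (e.trans e') hC)
        rw [ht3] at h6
        exact absurd h6 (by norm_num)
      · exact hno t htp 3 h5 ht3 d hd htd
    · rw [hF] at htd
      obtain ⟨d', hd', htd'⟩ := h3 (by omega)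
      rw [hF] at htd'
      have h5 : (7 : ℕ) ∈ pr (Fintype.card F) := by rw [hF]; decide
      have h6 : (3 : ℕ) ∈ pr (Fintype.card F) := by rw [hF]; decide
      by_cases ht7 : t = 7
      · refine hno 7 h5 3 h6 (by norm_num) d' hd' (dvd_trans ?_ htd')
        rw [ht7]; norm_num
      · exact hno t htp 7 h5 ht7 d hd htd
  · obtain ⟨r, s, hr, hs, hrs, hr1, hs1, d, hd, h4⟩ := h1 htc
    rw [hcard] at hr1 hs1
    exact hno r ((prime_dvd_iff hF hr).1 hr1) s ((prime_dvd_iff hF hs).1 hs1) hrs d hd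
      (dvd_trans ⟨t, by ring⟩ h4)

/-- **The direct product case.** -/
theorem nonsolv (hOut : OutFact.{u}) {G : Type u} [Group G] [Finite G] (R K : Subgroup G) [hR : R.Normal]
    [hK : K.Normal] (hRK : R ≤ K) (hRs : Group.IsSolvable R) {F : Type} [Field F] [Fintype F]
    (hF : 4 ≤ Fintype.card F)
    (e : K.map (QuotientGroup.mk' R) ≃* Matrix.ProjectiveSpecialLinearGroup (Fin 2) F)
    (hC : Subgroup.centralizer ((K.map (QuotientGroup.mk' R) : Subgroup (G ⧸ R)) : Set (G ⧸ R)) = ⊥)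
    (htri : (degreeGraph G).CliqueFree 3) {p : ℕ} (hp : p ∈ degreePrimes G)
    (hpS : ¬ p ∣ Nat.card (Matrix.ProjectiveSpecialLinearGroup (Fin 2) F)) :
    ∃ (F' : Type) (_ : Field F') (_ : Fintype F'), (Fintype.card F' = 4 ∨ Fintype.card F' = 8) ∧
    ∃ L : Subgroup G, L.Normal ∧ L ⊓ R = ⊥ ∧ L ⊔ R = ⊤ ∧
      Nonempty (L ≃* Matrix.ProjectiveSpecialLinearGroup (Fin 2) F') ∧
      degreePrimes L = ↑(pr (Fintype.card F')) ∧
      degreePrimes G = degreePrimes L ∪ degreePrimes R ∧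
      (∀ p q : ℕ, ¬ (degreeGraph R).Adj p q) ∧ degreePrimes L ∩ degreePrimes R = ∅ := by
  classical
  have hidx : (K.map (QuotientGroup.mk' R)).index = K.index := by
    rw [Subgroup.index_map, QuotientGroup.ker_mk', sup_eq_left.2 hRK, QuotientGroup.range_mk', Subgroup.index_top, mul_one]
  have hcardS : Nat.card (K.map (QuotientGroup.mk' R)) =
      Nat.card (Matrix.ProjectiveSpecialLinearGroup (Fin 2) F) := Nat.card_congr e.toEquiv
  have hN : (K.map (QuotientGroup.mk' R)).Normal := hK.map _ (QuotientGroup.mk'_surjective R)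
  have hpK : ¬ p ∣ K.index := by
    intro h
    rw [← hidx] at h
    obtain ⟨r, s, hr, hs, hrs, hr1, hs1, d, hd, h4⟩ :=
      (hOut (G ⧸ R) _ F hF ⟨e⟩ hC p hp.1 h).1 (by rwa [hcardS])
    have hd' : d ∈ charDegrees G := Link.quot R hd
    rw [hcardS] at hr1 hs1
    have hpr : p ≠ r := by rintro rfl; exact hpS hr1
    have hps : p ≠ s := by rintro rfl; exact hpS hs1
    refine no_tri htri hp.1 hr hs hpr hps hrs hd' ?_ hd' ?_ hd' ?_
    · exact dvd_trans ⟨s, by ring⟩ h4
    · exact dvd_trans ⟨r, by ring⟩ h4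
    · exact dvd_trans ⟨p, by ring⟩ h4
  obtain ⟨h458, hdeg⟩ := step_one R K hF e htri hp hpS hpK
  obtain ⟨F', iF, iF', hF', ⟨e'⟩⟩ := to_even h458
  have hdeg' : ∀ r ∈ pr (Fintype.card F'), p ≠ r ∧ ∃ n ∈ charDegrees G, p * r ∣ n := by
    intro r hr
    have h1 : r ∈ degreePrimes (Matrix.ProjectiveSpecialLinearGroup (Fin 2) F') := by
      rw [degreePrimes_psl hF']; exact Finset.mem_coe.2 hr
    have h2 : r ∣ Nat.card (Matrix.ProjectiveSpecialLinearGroup (Fin 2) F) := by
      rw [Nat.card_congr e'.toEquiv]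
      exact (prime_dvd_iff hF' h1.1).2 hr
    rw [← degreePrimes_congr e'] at h1
    obtain ⟨hr', d, hd, hrd⟩ := h1
    obtain ⟨n, hn, hpn⟩ := hdeg d hd
    exact ⟨by rintro rfl; exact hpS h2, n, hn, (mul_dvd_mul_left p hrd).trans hpn⟩
  have hprime : ∀ r ∈ pr (Fintype.card F'), r.Prime := by
    intro r hr
    have h1 : r ∈ degreePrimes (Matrix.ProjectiveSpecialLinearGroup (Fin 2) F') := by
      rw [degreePrimes_psl hF']; exact Finset.mem_coe.2 hr
    exact h1.1
  have hno : ∀ r ∈ pr (Fintype.card F'), ∀ s ∈ pr (Fintype.card F'), r ≠ s →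
      ∀ d ∈ charDegrees G, ¬ r * s ∣ d := by
    intro r hr s hs hrs d hd h
    obtain ⟨h1, n1, hn1, h1'⟩ := hdeg' r hr
    obtain ⟨h2, n2, hn2, h2'⟩ := hdeg' s hs
    exact no_tri htri hp.1 (hprime r hr) (hprime s hs) h1 h2 hrs hn1 h1' hn2 h2' hd h
  have htop := eq_top_of_out hOut (K.map (QuotientGroup.mk' R)) hF' (e.trans e') hC
    (fun r hr s hs hrs d hd => hno r hr s hs hrs d (Link.quot R hd))
  have eG : G ⧸ R ≃* Matrix.ProjectiveSpecialLinearGroup (Fin 2) F' :=
    (Subgroup.topEquiv.symm.trans (MulEquiv.subgroupCongr htop.symm)).trans (e.trans e')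
  obtain ⟨L, h1, h2, h3, ⟨eL⟩, h5, h6, h7⟩ := main R hRs hF' eG htri hno
  exact ⟨F', iF, iF', hF', L, h1, h2, h3, ⟨eL⟩, by rw [degreePrimes_congr eL, degreePrimes_psl hF'], h5, h6, h7⟩

end Cfsg.Agent.H677.Pent
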