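import Cfsg.Agent.S0243
import Cfsg.Agent.S0252
import Cfsg.Agent.S0253
import Cfsg.Agent.S4812
import Cfsg.Agent.H681.DegBasic

/-!
# The degrees of `PSL(2,4)` and `PSL(2,8)` (helper677)
-/

set_option autoImplicit false

namespace Cfsg.Agent.H677.Pent

open Cfsg Matrix

universe u

theorem to_even {F : Type} [Field F] [Fintype F]
    (h : Fintype.card F = 4 ∨ Fintype.card F = 5 ∨ Fintype.card F = 8) :
    ∃ (F' : Type) (_ : Field F') (_ : Fintype F'), (Fintype.card F' = 4 ∨ Fintype.card F' = 8) ∧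
      Nonempty (Matrix.ProjectiveSpecialLinearGroup (Fin 2) F ≃*
        Matrix.ProjectiveSpecialLinearGroup (Fin 2) F') := by
  rcases h with h | h | h
  · exact ⟨F, inferInstance, inferInstance, Or.inl h, ⟨MulEquiv.refl _⟩⟩
  · haveI : Fact (Nat.Prime 2) := ⟨Nat.prime_two⟩
    letI := Fintype.ofFinite (GaloisField 2 2)
    have h4 : Fintype.card (GaloisField 2 2) = 4 := by
      rw [← Nat.card_eq_fintype_card, GaloisField.card 2 2 (by norm_num)]
      norm_num
    obtain ⟨e1⟩ := S0253.result h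
    obtain ⟨e2⟩ := S0252.result h4
    exact ⟨GaloisField 2 2, inferInstance, inferInstance, Or.inl h4, ⟨e1.trans e2.symm⟩⟩
  · exact ⟨F, inferInstance, inferInstance, Or.inr h, ⟨MulEquiv.refl _⟩⟩

/-- The primes of `PSL(2,F)`, `|F| = 4, 8`. -/
def pr (q : ℕ) : Finset ℕ := if q = 4 then {2, 3, 5} else {2, 3, 7}

theorem card_psl {F : Type} [Field F] [Fintype F] (h : Fintype.card F = 4 ∨ Fintype.card F = 8) :
    Nat.card (Matrix.ProjectiveSpecialLinearGroup (Fin 2) F) =
      Fintype.card F * (Fintype.card F ^ 2 - 1) := by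
  have h1 := S0243.result (F := F) rfl 2 le_rfl
  rw [Fin.prod_univ_two] at h1
  rcases h with h | h <;> rw [h] at h1 ⊢ <;> norm_num at h1 ⊢ <;> omega

theorem prime_dvd_iff {F : Type} [Field F] [Fintype F] (h : Fintype.card F = 4 ∨ Fintype.card F = 8)
    {r : ℕ} (hr : r.Prime) :
    r ∣ Nat.card (Matrix.ProjectiveSpecialLinearGroup (Fin 2) F) ↔ r ∈ pr (Fintype.card F) := by
  rw [card_psl h]
  have key : ∀ {n : ℕ}, n ≠ 0 → (r ∣ n ↔ r ∈ n.primeFactors) := fun hn =>
    ⟨fun h' => Nat.mem_primeFactors.2 ⟨hr, h', hn⟩, fun h' => Nat.dvd_of_mem_primeFactors h'⟩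
  rcases h with h | h <;> rw [h]
  · rw [key (by norm_num)]
    have : (4 * (4 ^ 2 - 1)).primeFactors = pr 4 := by decide +kernel
    rw [this]
  · rw [key (by norm_num)]
    have : (8 * (8 ^ 2 - 1)).primeFactors = pr 8 := by decide +kernel
    rw [this]

theorem degreePrimes_psl {F : Type} [Field F] [Fintype F]
    (h : Fintype.card F = 4 ∨ Fintype.card F = 8) :
    degreePrimes (Matrix.ProjectiveSpecialLinearGroup (Fin 2) F) = ↑(pr (Fintype.card F)) := by
  have hc : CharP F 2 := by
    obtain ⟨p, hp⟩ := CharP.exists F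
    have hpp : p.Prime := (CharP.char_is_prime_or_zero F p).resolve_right (CharP.char_ne_zero_of_finite F p)
    haveI : Fact p.Prime := ⟨hpp⟩
    obtain ⟨n, -, hn⟩ := FiniteField.card F p
    have h2 : p ∣ 2 ^ 3 := by
      have h3 : p ∣ Fintype.card F := by rw [hn]; exact dvd_pow_self _ n.pos.ne'
      rcases h with h | h <;> rw [h] at h3
      · exact h3.trans (by norm_num)
      · exact h3.trans (by norm_num)
    have h3 := (Nat.prime_dvd_prime_iff_eq hpp Nat.prime_two).1 (hpp.dvd_of_dvd_pow h2)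
    rwa [h3] at hp
  have h4 := (S4812.result F (Fintype.card F) rfl (by rcases h with h | h <;> omega)
    (S := Matrix.ProjectiveSpecialLinearGroup (Fin 2) F) (Or.inl ⟨MulEquiv.refl _⟩)).1
  rw [h4]
  ext r
  rw [Set.mem_setOf_eq, ← card_psl h]
  constructor
  · rintro ⟨hr, h5⟩
    exact Finset.mem_coe.2 ((prime_dvd_iff h hr).1 h5)
  · intro h5
    have h6 := Finset.mem_coe.1 h5
    have hr : r.Prime := by
      have : ∀ q, ∀ x ∈ pr q, x.Prime := by
        intro q x hx
        unfold pr at hx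
        split_ifs at hx
        · fin_cases hx <;> norm_num
        · fin_cases hx <;> norm_num
      exact this _ _ h6
    exact ⟨hr, (prime_dvd_iff h hr).2 h6⟩

theorem card_pr (q : ℕ) : (pr q).card = 3 := by
  unfold pr
  split_ifs <;> rfl

end Cfsg.Agent.H677.Pent
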