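import Cfsg.Agent.H677.Pent.Step
import Cfsg.Agent.H677.Pent.Small
import Cfsg.Agent.H671.Frame

/-!
# Non-solvable groups with triangle-free degree graph: splitting `G = L × R` (helper677)
-/

set_option autoImplicit false

namespace Cfsg.Agent.H677.Pent

open Cfsg Cfsg.Agent.H671 Matrix
open Cfsg.Agent.H681.DegBasic (mem_charDegrees charDegrees_comp)

universe u

theorem mul_mem_cd {G H : Type*} [Group G] [Finite G] [Group H] [Finite H] {a b : ℕ}
    (ha : a ∈ charDegrees G) (hb : b ∈ charDegrees H) : a * b ∈ charDegrees (G × H) := by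
  obtain ⟨α, hα, ha⟩ := mem_charDegrees.1 ha
  obtain ⟨β, hβ, hb⟩ := mem_charDegrees.1 hb
  refine mem_charDegrees.2 ⟨_, (S0188.result _).2 ⟨α, β, hα, hβ, rfl⟩, ?_⟩
  show α 1 * β 1 = _
  rw [ha, hb]; push_cast; ring

theorem of_mem_cd {G H : Type*} [Group G] [Finite G] [Group H] [Finite H] {n : ℕ}
    (h : n ∈ charDegrees (G × H)) : ∃ a ∈ charDegrees G, ∃ b ∈ charDegrees H, n = a * b := by
  obtain ⟨χ, hχ, hn⟩ := mem_charDegrees.1 h
  obtain ⟨α, β, hα, hβ, rfl⟩ := (S0188.result _).1 hχ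
  refine ⟨charDegree α, ⟨⟨α, hα⟩, rfl⟩, charDegree β, ⟨⟨β, hβ⟩, rfl⟩, ?_⟩
  have h1 : α 1 * β 1 = n := hn
  rw [← H672.coe_charDegree hα, ← H672.coe_charDegree hβ] at h1
  exact_mod_cast h1.symm

theorem exists_prodEquiv {G : Type u} [Group G] (L R : Subgroup G) [hL : L.Normal] [hR : R.Normal]
    (h1 : L ⊓ R = ⊥) (h2 : L ⊔ R = ⊤) : Nonempty (L × R ≃* G) := by
  have hc : ∀ (m : L) (n : R), Commute (L.subtype m) (R.subtype n) := fun m n =>
    Subgroup.commute_of_normal_of_disjoint L R hL hR (disjoint_iff.2 h1) m n m.2 n.2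
  refine ⟨MulEquiv.ofBijective (MonoidHom.noncommCoprod L.subtype R.subtype hc) ⟨?_, ?_⟩⟩
  · rw [MonoidHom.noncommCoprod_injective]
    refine ⟨L.subtype_injective, R.subtype_injective, ?_⟩
    rw [L.range_subtype, R.range_subtype, disjoint_iff, h1]
  · rw [← MonoidHom.range_eq_top, MonoidHom.noncommCoprod_range, L.range_subtype, R.range_subtype, h2]

/-- The perfect residual of `G`, when `G / R` is simple non-abelian and `R` is solvable. -/
theorem exists_residual_sup {G : Type u} [Group G] [Finite G] (R : Subgroup G) [hR : R.Normal]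
    (hRs : Group.IsSolvable R) (hs : IsSimpleGroup (G ⧸ R)) (hna : ¬ Group.IsSolvable (G ⧸ R)) :
    ∃ L : Subgroup G, L.Normal ∧ ⁅L, L⁆ = L ∧ L ⊔ R = ⊤ := by
  obtain ⟨L, hL, hperf, hsol⟩ := Frame.exists_residual G
  refine ⟨L, hL, hperf, ?_⟩
  have h1 : (L.map (QuotientGroup.mk' R)).Normal := hL.map _ (QuotientGroup.mk'_surjective R)
  rcases hs.eq_bot_or_eq_top_of_normal _ h1 with h2 | h2
  · exfalso
    have h3 : L ≤ R := by
      intro x hx
      have h4 : (QuotientGroup.mk' R) x ∈ L.map (QuotientGroup.mk' R) := Subgroup.mem_map_of_mem _ hx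
      rw [h2, Subgroup.mem_bot] at h4
      exact (QuotientGroup.eq_one_iff x).1 h4
    have h5 : Group.IsSolvable L := Group.isSolvable_of_isSolvable_injective (f := Subgroup.inclusion h3) (Subgroup.inclusion_injective h3)
    have h6 : Group.IsSolvable G := Group.isSolvable_of_ker_le_range L.subtype (QuotientGroup.mk' L)
      (by rw [QuotientGroup.ker_mk', Subgroup.range_subtype])
    exact hna (Group.isSolvable_of_surjective (QuotientGroup.mk'_surjective R))
  · rw [eq_top_iff]
    intro x _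
    have h3 : (QuotientGroup.mk' R) x ∈ L.map (QuotientGroup.mk' R) := by rw [h2]; trivial
    obtain ⟨y, hy, hyx⟩ := h3
    have h4 : y⁻¹ * x ∈ R := by
      rw [← QuotientGroup.eq]; exact hyx
    have : x = y * (y⁻¹ * x) := by group
    rw [this]
    exact Subgroup.mul_mem_sup hy h4

end Cfsg.Agent.H677.Pent
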