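import Cfsg.Agent.H677.Pent.Core

/-!
# Non-solvable groups with triangle-free degree graph: primes outside `π(S)` (helper677)
-/

set_option autoImplicit false

namespace Cfsg.Agent.H677.Pent

open Cfsg Cfsg.Agent.H671 Matrix
open Cfsg.Agent.H681.DegBasic (mem_charDegrees charDegrees_comp)
open Cfsg.Agent.H672 (lf isIrr_lf charDegree_lf over_iff Over charDegree_dvd_of_over coe_charDegree)

universe u

theorem no_tri {G : Type u} [Group G] (htri : (degreeGraph G).CliqueFree 3) {p q r : ℕ}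
    (hp : p.Prime) (hq : q.Prime) (hr : r.Prime) (hpq : p ≠ q) (hpr : p ≠ r) (hqr : q ≠ r) {a b c : ℕ}
    (ha : a ∈ charDegrees G) (h1 : p * q ∣ a) (hb : b ∈ charDegrees G) (h2 : p * r ∣ b)
    (hc : c ∈ charDegrees G) (h3 : q * r ∣ c) : False :=
  htri {p, q, r} (SimpleGraph.is3Clique_triple_iff.2
    ⟨⟨hpq, hp, hq, a, ha, h1⟩, ⟨hpr, hp, hr, b, hb, h2⟩, ⟨hqr, hq, hr, c, hc, h3⟩⟩)

theorem exists_quotEquiv {G : Type u} [Group G] (R K : Subgroup G) [R.Normal] :
    Nonempty (K ⧸ R.subgroupOf K ≃* K.map (QuotientGroup.mk' R)) := by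
  let f := (QuotientGroup.mk' R).subgroupMap K
  have hf : Function.Surjective f := MonoidHom.subgroupMap_surjective _ _
  have hk : f.ker = R.subgroupOf K := by
    ext x
    rw [MonoidHom.mem_ker, Subgroup.mem_subgroupOf]
    constructor
    · intro h
      have h1 : (QuotientGroup.mk' R) (x : G) = 1 := congrArg Subtype.val h
      exact (QuotientGroup.eq_one_iff _).1 h1
    · intro h
      exact Subtype.ext ((QuotientGroup.eq_one_iff _).2 h)
  exact ⟨(QuotientGroup.quotientMulEquivOfEq hk.symm).trans (QuotientGroup.quotientKerEquivOfSurjective f hf)⟩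

/-- A prime dividing `a` and not dividing the ratio `a / b` divides `b`. -/
theorem dvd_of_ratio {p a b n : ℕ} (hp : p.Prime) (hba : b ∣ a) (hr : a / b ∣ n) (hn : ¬ p ∣ n)
    (h : p ∣ a) : p ∣ b := by
  rw [← Nat.div_mul_cancel hba] at h
  exact (hp.dvd_mul.1 h).resolve_left fun h' => hn (h'.trans hr)

theorem step_one {G : Type u} [Group G] [Finite G] (R K : Subgroup G) [hR : R.Normal] [hK : K.Normal]
    {F : Type} [Field F] [Fintype F] (hF : 4 ≤ Fintype.card F)
    (e : K.map (QuotientGroup.mk' R) ≃* Matrix.ProjectiveSpecialLinearGroup (Fin 2) F)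
    (htri : (degreeGraph G).CliqueFree 3) {p : ℕ} (hp : p ∈ degreePrimes G)
    (hpS : ¬ p ∣ Nat.card (Matrix.ProjectiveSpecialLinearGroup (Fin 2) F)) (hpK : ¬ p ∣ K.index) :
    (Fintype.card F = 4 ∨ Fintype.card F = 5 ∨ Fintype.card F = 8) ∧
      ∀ d ∈ charDegrees (Matrix.ProjectiveSpecialLinearGroup (Fin 2) F), ∃ n ∈ charDegrees G, p * d ∣ n := by
  classical
  obtain ⟨hpp, _, ⟨χ, rfl⟩, hpχ⟩ := hp
  obtain ⟨θ0, hθ0, ho0⟩ := H672.exists_under (f := K.subtype) χ.2
  obtain ⟨d1, d2⟩ := charDegree_dvd_of_over K χ.2 hθ0 ho0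
  have hp0 : p ∣ charDegree θ0 := dvd_of_ratio hpp d1 d2 hpK hpχ
  obtain ⟨f0⟩ := exists_quotEquiv R K
  have e' := f0.trans e
  have hidx : (R.subgroupOf K).index = Nat.card (Matrix.ProjectiveSpecialLinearGroup (Fin 2) F) := by
    rw [Subgroup.index_eq_card]
    exact Nat.card_congr e'.toEquiv
  obtain ⟨θ, hθ, ho⟩ := H672.exists_under (f := (R.subgroupOf K).subtype) hθ0
  obtain ⟨d3, d4⟩ := charDegree_dvd_of_over (R.subgroupOf K) hθ0 hθ ho
  have hpθ : p ∣ charDegree θ := dvd_of_ratio hpp d3 d4 (by rwa [hidx]) hp0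
  have := Fintype.ofFinite (R.subgroupOf K)
  rcases H525.L2.l2_over (R.subgroupOf K) hF e' ⟨θ, hθ⟩ with ⟨ψ, h1, r, s, d, hr, hs, hrs, h2, h3⟩ | ⟨h1, ψ, hψ⟩
  · exfalso
    have h2' : charDegree (ψ : K → ℂ) = d * charDegree θ := h2
    have hd0 : 0 < charDegree θ := H672.charDegree_pos hθ
    have h5 : d ∣ (R.subgroupOf K).index := by
      have h6 : Over (R.subgroupOf K).subtype (ψ : K → ℂ) θ := by
        rw [over_iff]
        exact h1
      have h7 := (charDegree_dvd_of_over (R.subgroupOf K) ψ.2 hθ h6).2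
      rwa [h2', Nat.mul_div_cancel _ hd0] at h7
    rw [hidx] at h5
    have hrd : r ∣ d := (Dvd.intro _ rfl).trans h3
    have hsd : s ∣ d := (Dvd.intro_left _ rfl).trans h3
    have hpr : p ≠ r := by rintro rfl; exact hpS (hrd.trans h5)
    have hps : p ≠ s := by rintro rfl; exact hpS (hsd.trans h5)
    obtain ⟨n, hn, hdn⟩ := Link.overN K (d := charDegree (ψ : K → ℂ)) ⟨ψ, rfl⟩
    have h8 : r * s * p ∣ n := by
      refine dvd_trans ?_ hdn
      rw [h2']
      exact mul_dvd_mul h3 hpθ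
    refine no_tri htri hpp hr hs hpr hps hrs hn ?_ hn ?_ hn ?_
    · exact dvd_trans ⟨s, by ring⟩ h8
    · exact dvd_trans ⟨r, by ring⟩ h8
    · exact dvd_trans ⟨p, by ring⟩ h8
  · refine ⟨h1, fun d hd => ?_⟩
    have h2 : charDegree (ψ : K → ℂ) = charDegree θ := by
      have h5 := hψ 1
      have h6 : ((charDegree (ψ : K → ℂ) : ℕ) : ℂ) = (charDegree θ : ℕ) := by
        rw [coe_charDegree ψ.2, coe_charDegree hθ]
        have h7 : (ψ : K → ℂ) ((1 : R.subgroupOf K) : K) = θ 1 := h5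
        rwa [OneMemClass.coe_one] at h7
      exact_mod_cast h6
    have h3 := H681.DegBasic.gallagher (e'.toMonoidHom.comp (QuotientGroup.mk' (R.subgroupOf K)))
      (e'.surjective.comp (QuotientGroup.mk'_surjective _)) (R.subgroupOf K)
      (fun k hk => by
        have : (QuotientGroup.mk' (R.subgroupOf K)) k = 1 := (QuotientGroup.eq_one_iff _).2 hk
        rw [MonoidHom.comp_apply, this, map_one]) ψ.2
      (by
        have : (fun k : R.subgroupOf K => (ψ : K → ℂ) k) = θ := funext hψ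
        rw [this]; exact hθ) (n := charDegree (ψ : K → ℂ)) (coe_charDegree ψ.2).symm hd
    obtain ⟨n, hn, hdn⟩ := Link.overN K h3
    refine ⟨n, hn, dvd_trans ?_ hdn⟩
    rw [mul_comm p d, h2]
    exact mul_dvd_mul_left d hpθ

end Cfsg.Agent.H677.Pent
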